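import Cfsg.Agent.H415.HeRows
import Cfsg.Agent.H868.HeFi24
import Cfsg.Agent.Fischer.Fi24Final
import Cfsg.Agent.S1698

/-!
# `FullP` for the Held group at `p = 3`, `p = 7` and for `Fi24'` at `p = 7` (helper415)
-/

set_option autoImplicit false

namespace Cfsg.Agent.H415.HeFiRows

open Subgroup Cfsg Cfsg.Agent.H749 Cfsg.Agent.H792.SpTool

/-- **The Held group at `p = 3`.** -/
theorem fullP_he_three {G : Type*} [Group G] [Finite G] (h : Cfsg.Spor.IsoHe G) : Cfsg.Agent.H749.FullP 3 G := by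
  obtain ⟨e⟩ := h
  exact FullP.of_mulEquiv e.symm HeRows.full_he_three

/-- **The Held group at `p = 7`.** -/
theorem fullP_he_seven {G : Type*} [Group G] [Finite G] (h : Cfsg.Spor.IsoHe G) : Cfsg.Agent.H749.FullP 7 G := by
  obtain ⟨e⟩ := h
  exact FullP.of_mulEquiv e.symm HeRows.full_he_seven

/-- the embedding of the Held group into the derived group of `Fi24` -/
theorem exists_hom : ∃ f : Cfsg.Spor.He →* Cfsg.Spor.Fi24', Function.Injective f := by
  have hfin : Finite Cfsg.Spor.He := Cfsg.Agent.FixBN.HeStab.finite_he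
  obtain ⟨ψ, hψ⟩ := Cfsg.Agent.H868.HeFi24.exists_embedding
  have hs : IsSimpleGroup Cfsg.Spor.He := Cfsg.Agent.S1695.result.1
  have hmem : ∀ x, ψ x ∈ commutator Cfsg.Spor.Fi24 := by
    intro x
    rw [← Fischer.Fi24Final.ker_sgn, MonoidHom.mem_ker]
    rcases (MonoidHom.normal_ker (Fischer.Fi24Final.sgn.comp ψ)).eq_bot_or_eq_top with h | h
    · exfalso
      have h1 := (MonoidHom.ker_eq_bot_iff _).1 h
      have h2 := Nat.card_le_card_of_injective _ h1
      rw [Cfsg.Agent.FixBN.HeStab.card_he, Nat.card_eq_fintype_card] at h2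
      have h3 : Fintype.card ℤˣ = 2 := rfl
      omega
    · have h1 : x ∈ (Fischer.Fi24Final.sgn.comp ψ).ker := by rw [h]; trivial
      exact h1
  refine ⟨ψ.codRestrict _ hmem, fun a b h => hψ (congrArg Subtype.val h)⟩

/-- **`Fi24'` at `p = 7`.** -/
theorem fullP_fi24p_seven {G : Type*} [Group G] [Finite G] (h : Cfsg.Spor.IsoFi24' G) : Cfsg.Agent.H749.FullP 7 G := by
  have : Fact (Nat.Prime 7) := ⟨by norm_num⟩
  obtain ⟨e⟩ := h
  have hcard : Nat.card Cfsg.Spor.Fi24' = 1255205709190661721292800 := S1698.result.2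
  have hfin : Finite Cfsg.Spor.Fi24' := Nat.finite_of_card_ne_zero (by rw [hcard]; norm_num)
  have hfin' : Finite Cfsg.Spor.He := Cfsg.Agent.FixBN.HeStab.finite_he
  obtain ⟨f, hf⟩ := exists_hom
  refine FullP.of_mulEquiv e.symm (fullP_of_hom f ?_ HeRows.full_he_seven)
  have h1 := f.range.card_mul_index
  rw [hcard, Nat.card_congr (MonoidHom.ofInjective hf).symm.toEquiv, Cfsg.Agent.FixBN.HeStab.card_he] at h1
  have h2 : f.range.index = 311435513985024 := by omega
  rw [h2]
  norm_num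

end Cfsg.Agent.H415.HeFiRows
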