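import Cfsg.Agent.H15.CopGen
import Cfsg.Agent.H71.ReeOut

/-!
# S1923: the small Ree groups satisfy `CG` (helper415), part 1: the Bruhat normal form

* `V D` : the group of the `U 0 u 0`; `V_le_dc` : `V ≤ dc (U 0 1 0)`;
* `eq_top` : `n`, `h (-1)`, `U 1 0 0` and `V` generate the group;
* `z_not_mem` : `U 0 1 0` is not in the derived group if `q = 3` and the derived group has index 3.
-/

set_option autoImplicit false

namespace Cfsg.Agent.H415.CopReeGen

open Subgroup Cfsg Cfsg.Agent.H15.CopGen Cfsg.Agent.LieRecognition Cfsg.Agent.LieRecognition.ReeAbs Cfsg.Agent.H71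

variable {K : Type*} [Field K] {G : Type*} [Group G] {m : ℕ} {U : K → K → K → G} {h : Kˣ → G} {n : G}

theorem z3 (m : ℕ) : (0 : K) ^ (3 ^ (m + 1)) = 0 := zero_pow (by positivity)

/-- the group of the `U 0 u 0` -/
def V (D : Data m U h n) : Subgroup G where
  carrier := {g | ∃ u : K, g = U 0 u 0}
  mul_mem' := by
    rintro _ _ ⟨a, rfl⟩ ⟨b, rfl⟩
    exact ⟨a + b, (D.U_add a b).symm⟩
  one_mem' := ⟨0, D.U_zero.symm⟩
  inv_mem' := by
    rintro _ ⟨a, rfl⟩
    exact ⟨-a, (D.U_neg a).symm⟩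

theorem V_le_dc (D : Data m U h n) : V D ≤ dc (U 0 1 0) := by
  rintro _ ⟨y, rfl⟩
  rw [mem_dc]
  intro c hc
  rcases D.bruhat c with ⟨t, u, v, a, rfl⟩ | ⟨t, u, v, a, t', u', v', rfl⟩
  · have h1 : ∀ w : K, U t u v * h a * U 0 w 0 = U t (u + (a : K) ^ (3 ^ (m + 1) + 3) * w) v * h a := by
      intro w
      rw [mul_assoc, D.h_U0, ← mul_assoc, D.U_mul, z3]
      congr 2 <;> ring
    have h2 : ∀ w : K, U 0 w 0 * (U t u v * h a) = U t (w + u) (v - w * t) * h a := by
      intro w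
      rw [← mul_assoc, D.U_mul]
      congr 2 <;> ring
    rw [h1, h2] at hc
    obtain ⟨-, h3, h4, -⟩ := D.inj₁ _ _ _ _ _ _ _ _ hc
    have h5 : t = 0 := by linear_combination h4
    have h6 : (a : K) ^ (3 ^ (m + 1) + 3) = 1 := by linear_combination h3
    rw [h1, h2, h5, h6]
    congr 2 <;> ring
  · exfalso
    have h1 : U t u v * h a * n * U t' u' v' * U 0 1 0 = U t u v * h a * n * U t' (u' + 1) v' := by
      rw [mul_assoc, D.U_mul, z3]
      congr 2 <;> ring
    have h2 : U 0 1 0 * (U t u v * h a * n * U t' u' v') = U t (1 + u) (v - t) * h a * n * U t' u' v' := by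
      rw [← mul_assoc, ← mul_assoc, ← mul_assoc, D.U_mul]
      congr 4 <;> ring
    rw [h1, h2] at hc
    obtain ⟨-, h3, -⟩ := D.inj₂ _ _ _ _ _ _ _ _ _ _ _ _ _ _ hc
    exact one_ne_zero (α := K) (by linear_combination -h3)

section Gen

variable [Fintype K]

/-- **Generation.** -/
theorem eq_top (hK : Fintype.card K = 3 ^ (2 * m + 1)) (D : Data m U h n) {H : Subgroup G} (hn : n ∈ H)
    (hh : h (-1) ∈ H) (hU : U 1 0 0 ∈ H) (hV : V D ≤ H) : H = ⊤ := by
  have R := D.rel hK
  -- the torus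
  have hx : ∀ t : K, U 0 t 0 ∈ H := fun t => hV ⟨t, rfl⟩
  have h1 : ∀ t : K, t ≠ 0 → Data.hf m h (-t) ∈ H := by
    intro t ht
    have e1 := R.rel t ht
    have e2 : Data.hf m h (-t) = (U 0 (-t⁻¹) 0 * n)⁻¹ * (n * U 0 t 0 * n) * (U 0 (-t⁻¹) 0)⁻¹ := by
      have e3 : n * U 0 t 0 * n = U 0 (-t⁻¹) 0 * n * Data.hf m h (-t) * U 0 (-t⁻¹) 0 := e1
      rw [e3]
      group
    rw [e2]
    exact mul_mem (mul_mem (inv_mem (mul_mem (hx _) hn)) (mul_mem (mul_mem hn (hx _)) hn)) (inv_mem (hx _))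
  have h2 : ∀ a : Kˣ, h (f m a) ∈ H := by
    intro a
    have e1 := h1 (-(a : K)) (neg_ne_zero.2 a.ne_zero)
    rw [neg_neg, Data.hf_of_ne a.ne_zero] at e1
    have e2 : Units.mk0 (a : K) a.ne_zero = a := Units.ext rfl
    rwa [e2] at e1
  have h3 : ∀ a : Kˣ, h a ∈ H := by
    intro a
    obtain ⟨k, hk | hk⟩ := exists_f hK a
    · rw [hk]; exact h2 k
    · rw [hk, ← neg_one_mul, D.h_mul]
      exact mul_mem hh (h2 k)
  -- the first coordinates
  have h4 : ∀ t : K, U t 0 0 ∈ H := by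
    intro t
    by_cases ht : t = 0
    · rw [ht, D.U_zero]; exact one_mem _
    · obtain ⟨a, ha⟩ := ReeOut.exists_pow_a (m := m) hK (Units.mk0 t ht)
      have e1 : h a * U 1 0 0 * (h a)⁻¹ = U t 0 0 := by
        rw [D.h_U, mul_inv_cancel_right]
        have e2 := congrArg Units.val ha
        rw [Units.val_pow_eq_pow_val, Units.val_mk0] at e2
        rw [e2]
        congr 1 <;> ring
      rw [← e1]
      exact mul_mem (mul_mem (h3 a) hU) (inv_mem (h3 a))
  -- the third coordinates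
  have h5 : ∀ v : K, U 0 0 v ∈ H := by
    intro v
    have e1 : U 0 (-v) 0 * U 1 0 0 = U 1 0 0 * U 0 (-v) 0 * U 0 0 v := by
      rw [D.U_mul, D.U_mul, D.U_mul, z3]
      congr 1 <;> ring
    have e2 : U 0 0 v = (U 1 0 0 * U 0 (-v) 0)⁻¹ * (U 0 (-v) 0 * U 1 0 0) := by
      rw [e1]
      group
    rw [e2]
    exact mul_mem (inv_mem (mul_mem hU (hx _))) (mul_mem (hx _) hU)
  have h6 : ∀ t u v : K, U t u v ∈ H := by
    intro t u v
    have e1 : U t u v = U t 0 0 * (U 0 u 0 * U 0 0 v) := by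
      rw [D.U_mul, D.U_mul, z3]
      congr 1 <;> ring
    rw [e1]
    exact mul_mem (h4 t) (mul_mem (hx u) (h5 v))
  rw [eq_top_iff]
  intro g _
  rcases D.bruhat g with ⟨t, u, v, a, rfl⟩ | ⟨t, u, v, a, t', u', v', rfl⟩
  · exact mul_mem (h6 _ _ _) (h3 _)
  · exact mul_mem (mul_mem (mul_mem (h6 _ _ _) (h3 _)) hn) (h6 _ _ _)

end Gen

/-! ### The group over the field with three elements -/

section Three

variable {E : Type*} [Field E] [Fintype E] {U : E → E → E → G} {h : Eˣ → G} {n : G}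

theorem cases_three (hE : Fintype.card E = 3 ^ (2 * 0 + 1)) (x : E) : x = 0 ∨ x = 1 ∨ x = -1 := by
  have h1 := FiniteField.pow_card x
  rw [hE] at h1
  have h2 : x * ((x - 1) * (x + 1)) = 0 := by linear_combination h1
  rcases mul_eq_zero.1 h2 with h3 | h3
  · exact Or.inl h3
  · rcases mul_eq_zero.1 h3 with h4 | h4
    · exact Or.inr (Or.inl (sub_eq_zero.1 h4))
    · exact Or.inr (Or.inr (eq_neg_of_add_eq_zero_left h4))

/-- a homomorphism from the group over the field with three elements to a group of exponent three, trivial on `z` -/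
theorem hom_trivial (hE : Fintype.card E = 3 ^ (2 * 0 + 1)) (D : Data 0 U h n) {A : Type*} [CommGroup A]
    (φ : G →* A) (h3 : ∀ x : A, x ^ 3 = 1) (hz : φ (U 0 1 0) = 1) (g : G) : φ g = 1 := by
  have sq : ∀ x : A, x * x = 1 → x = 1 := by
    intro x hx
    have e1 := h3 x
    rw [pow_succ, pow_two, hx, one_mul] at e1
    exact e1
  have hφn : φ n = 1 := sq _ (by rw [← map_mul, D.n_n, map_one])
  have hφh : ∀ a : Eˣ, φ (h a) = 1 := by
    intro a
    apply sq
    rw [← map_mul, ← D.h_mul]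
    have e1 : a * a = 1 := by
      apply Units.ext
      rcases cases_three hE (a : E) with e2 | e2 | e2
      · exact absurd e2 a.ne_zero
      · rw [Units.val_mul, e2, mul_one, Units.val_one]
      · rw [Units.val_mul, e2, Units.val_one]; ring
    rw [e1, D.h_one, map_one]
  have hx : ∀ u : E, φ (U 0 u 0) = 1 := by
    intro u
    rcases cases_three hE u with rfl | rfl | rfl
    · rw [D.U_zero, map_one]
    · exact hz
    · rw [D.U_neg, map_inv, hz, inv_one]
  have h5 : ∀ v : E, φ (U 0 0 v) = 1 := by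
    intro v
    have e1 : U 0 (-v) 0 * U 1 0 0 = U 1 0 0 * U 0 (-v) 0 * U 0 0 v := by
      rw [D.U_mul, D.U_mul, D.U_mul, z3]
      congr 1 <;> ring
    have e2 := congrArg φ e1
    rw [map_mul, map_mul, map_mul, mul_comm (φ (U 1 0 0)), eq_comm, mul_eq_left] at e2
    exact e2
  have h4 : ∀ t : E, φ (U t 0 0) = 1 := by
    intro t
    apply sq
    have e1 : φ (U t 0 0) = φ (U (-t) 0 0) := by
      have e2 := congrArg φ (D.inv_mul_U t 0 0)
      rw [map_mul, map_mul, hφh, one_mul, mul_one, neg_zero] at e2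
      exact e2
    have e2 : U (-t) 0 0 * U t 0 0 =
        U 0 (t * t ^ (3 ^ (0 + 1))) 0 * U 0 0 (-t ^ 2 * t ^ (3 ^ (0 + 1)) - t * t * t ^ (3 ^ (0 + 1))) := by
      rw [D.U_mul, D.U_mul, z3]
      congr 1 <;> ring
    nth_rewrite 1 [e1]
    rw [← map_mul, e2, map_mul, hx, h5, one_mul]
  have h6 : ∀ t u v : E, φ (U t u v) = 1 := by
    intro t u v
    have e1 : U t u v = U t 0 0 * (U 0 u 0 * U 0 0 v) := by
      rw [D.U_mul, D.U_mul, z3]
      congr 1 <;> ring
    rw [e1, map_mul, map_mul, h4, hx, h5, one_mul, one_mul]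
  rcases D.bruhat g with ⟨t, u, v, a, rfl⟩ | ⟨t, u, v, a, t', u', v', rfl⟩
  · rw [map_mul, h6, hφh, one_mul]
  · rw [map_mul, map_mul, map_mul, h6, hφh, hφn, h6, one_mul, one_mul, one_mul]

theorem z_not_mem [Finite G] (hE : Fintype.card E = 3 ^ (2 * 0 + 1)) (D : Data 0 U h n)
    (hc : (commutator G).index = 3) : U 0 1 0 ∉ commutator G := by
  intro hz
  have hcard : Nat.card (Abelianization G) = 3 := by
    rw [← hc]
    rfl
  have h3 : ∀ x : Abelianization G, x ^ 3 = 1 := by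
    intro x
    rw [← hcard]
    exact pow_card_eq_one'
  have h1 : ∀ g : G, Abelianization.of g = 1 := fun g => by
    refine hom_trivial hE D Abelianization.of h3 ?_ g
    exact (QuotientGroup.eq_one_iff _).2 hz
  have h2 : ∀ x : Abelianization G, x = 1 := by
    intro x
    obtain ⟨g, rfl⟩ := QuotientGroup.mk'_surjective (commutator G) x
    exact h1 g
  have h4 : Nat.card (Abelianization G) = 1 := by
    rw [Nat.card_eq_one_iff_unique]
    exact ⟨⟨fun a b => by rw [h2 a, h2 b]⟩, ⟨1⟩⟩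
  omega

/-- the derived group and `z` generate -/
theorem sup_zpowers [Finite G] (hE : Fintype.card E = 3 ^ (2 * 0 + 1)) (D : Data 0 U h n)
    (hc : (commutator G).index = 3) : commutator G ⊔ zpowers (U 0 1 0) = ⊤ := by
  have h1 := z_not_mem hE D hc
  have h2 : commutator G ≤ commutator G ⊔ zpowers (U 0 1 0) := le_sup_left
  have h3 := Subgroup.relIndex_mul_index h2
  rw [hc] at h3
  have h4 : (commutator G ⊔ zpowers (U 0 1 0)).index ∣ 3 := ⟨_, by rw [← h3, mul_comm]⟩
  rcases (Nat.dvd_prime Nat.prime_three).1 h4 with h5 | h5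
  · exact Subgroup.index_eq_one.1 h5
  · exfalso
    rw [h5] at h3
    have h6 : (commutator G).relIndex (commutator G ⊔ zpowers (U 0 1 0)) = 1 := by omega
    rw [Subgroup.relIndex_eq_one] at h6
    exact h1 (h6 (mem_sup_right (mem_zpowers _)))

end Three

end Cfsg.Agent.H415.CopReeGen
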