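import Cfsg.Agent.H415.Heis
import Cfsg.Agent.FixBN.HeStab
import Cfsg.Agent.CpAutHe.Cnt

/-!
# `FullP` for the Held group at `p = 3` and `p = 7` (helper415)
-/

set_option autoImplicit false
set_option maxRecDepth 100000

namespace Cfsg.Agent.H415.HeRows

open Subgroup Cfsg
open Cfsg.Spor.He (Gen)
open Cfsg.Spor.He.Gen
open Cfsg.Agent.SporadicB.HePerm (act wd)
open Cfsg.Agent.FixBN.HeStab Cfsg.Agent.KFacts.He.Lv Cfsg.Agent.H415.Heis Cfsg.Agent.CpAutHe.Cnt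

/-- an involutory word read backwards is its inverse; here: `U V = W V U`, etc. checked on the base -/
theorem fullP_of_words {p : ℕ} [Fact p.Prime] (h4 : ¬ p ^ 4 ∣ 4030387200) (U V W Gw Hw : List Gen) (i : Fin 2058)
    (h1 : chkB (pw U p) [] = true) (h2 : chkB (U ++ V) (W ++ (V ++ U)) = true) (h3 : chkB (U ++ W) (W ++ U) = true)
    (h5 : chkB (V ++ W) (W ++ V) = true) (h6 : Nat.beq (act W i) i = false) (h7 : chkB (Gw ++ W) (U ++ Gw) = true)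
    (h8 : chkB (Hw ++ W) (V ++ Hw) = true) : Cfsg.Agent.H749.FullP p Cfsg.Spor.He := by
  have hfin : Finite Cfsg.Spor.He := finite_he
  have e1 := eq_of_chkB h1
  have e2 := eq_of_chkB h2
  have e3 := eq_of_chkB h3
  have e5 := eq_of_chkB h5
  have e7 := eq_of_chkB h7
  have e8 := eq_of_chkB h8
  rw [wd_pw, wd_nil] at e1
  rw [wd_append, wd_append, wd_append] at e2
  rw [wd_append, wd_append] at e3 e5 e7 e8
  refine fullP_of_heis (u := wd U) (v := wd V) (w := wd W) (g := wd Gw) (h := wd Hw) ?_ e1 e2 e3 e5 ?_ e7 e8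
  · rw [card_he]; exact h4
  · intro he
    rw [act_eq, he, map_one] at h6
    have h9 : Nat.beq (i : ℕ) (i : ℕ) = true := Nat.beq_refl _
    have h10 : Nat.beq (i : ℕ) (i : ℕ) = false := h6
    rw [h9] at h10
    exact absurd h10 (by decide)

/-- **The Held group at `p = 3`.** -/
theorem full_he_three : Cfsg.Agent.H749.FullP 3 Cfsg.Spor.He := by
  have : Fact (Nat.Prime 3) := ⟨by norm_num⟩
  refine fullP_of_words (p := 3) (by norm_num) [d,e] [c,d,b,c,d,e,c,b,d,c]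
    [d,e,c,d,b,c,d,e,c,b,d,c,e,d,c,d,b,c,e,d,c,b,d,c] [c,b,g,d,c,d,f,c,d,c,d,f,a] [d,c,f,d,c,d,f,c,d,c,d,g]
    32 ?_ ?_ ?_ ?_ ?_ ?_ ?_
  all_goals decide +kernel

/-- **The Held group at `p = 7`.** -/
theorem full_he_seven : Cfsg.Agent.H749.FullP 7 Cfsg.Spor.He := by
  have : Fact (Nat.Prime 7) := ⟨by norm_num⟩
  refine fullP_of_words (p := 7) (by norm_num) [b,d,e,c,b,d,e,c,b,d,e,c]
    [f,d,c,d,c,d,f,b,d,e,c,b,d,e,c,b,d,e,c,f,d,c,d,c,d,f]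
    [b,d,e,c,b,d,e,c,b,d,e,c,f,d,c,d,c,d,f,b,d,e,c,b,d,e,c,b,d,e,c,f,d,c,d,c,d,f,c,e,d,b,c,e,d,b,c,e,d,b,f,d,c,d,c,d,f,c,e,d,b,c,e,d,b,c,e,d,b,f,d,c,d,c,d,f]
    [g,f,d,c,d,e,d,b,c,d,f,b,c,d,c] [b,a,e,d,c,b,g,d,c,d,b,c,d,g,d,b]
    0 ?_ ?_ ?_ ?_ ?_ ?_ ?_
  all_goals decide +kernel

end Cfsg.Agent.H415.HeRows
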