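import Cfsg.Agent.H200.LinFixD
import Cfsg.Agent.S0765
import Cfsg.Agent.LieClassical.SympCenter

/-!
# 2-elements of symplectic groups in odd characteristic (helper415, task 2334 for S3588)

`two_elt`, `no_two`.
-/

set_option autoImplicit false
set_option linter.unusedSectionVars false

namespace Cfsg.Agent.H415.SpTwo

open Module Polynomial Cfsg.Agent.H200.LinFix

/-! ### Numbers -/

theorem sq_sub {q : ℕ} (n : ℕ) : q ^ (2 * n) - 1 = (q ^ n - 1) * (q ^ n + 1) := by
  rcases Nat.eq_zero_or_pos (q ^ n) with h | h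
  · have h0 : q = 0 := by
      by_contra h0
      exact absurd h (pow_ne_zero n h0)
    have hn : n ≠ 0 := by
      rintro rfl
      simp at h
    rw [h, h0, zero_pow (by omega)]
    rfl
  · obtain ⟨k, hk⟩ : ∃ k, q ^ n = k + 1 := ⟨q ^ n - 1, by omega⟩
    rw [two_mul, pow_add, hk]
    have : (k + 1) * (k + 1) = k * (k + 1 + 1) + 1 := by ring
    rw [this]
    rfl

theorem num2 {q j a : ℕ} (hq : Odd q) (hj : 1 ≤ j) (ha' : ¬ 2 ^ (a + 1) ∣ q ^ 2 ^ j - 1) :
    ¬ 2 ^ a ∣ q ^ 2 ^ (j - 1) + 1 ∧ ¬ 2 ^ a ∣ q ^ 2 ^ (j - 1) - 1 := by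
  have e : q ^ 2 ^ j - 1 = (q ^ 2 ^ (j - 1) - 1) * (q ^ 2 ^ (j - 1) + 1) := by
    rw [← sq_sub, ← pow_succ', Nat.sub_add_cancel hj]
  have ho : Odd (q ^ 2 ^ (j - 1)) := hq.pow
  obtain ⟨k, hk⟩ := ho
  rw [e] at ha'
  constructor
  · intro h
    apply ha'
    rw [pow_succ']
    exact mul_dvd_mul ⟨k, by omega⟩ h
  · intro h
    apply ha'
    rw [pow_succ]
    exact mul_dvd_mul h ⟨k + 1, by omega⟩

theorem num1 {q j a : ℕ} (hq : Odd q) (hj : 1 ≤ j) (ha : 2 ^ a ∣ q ^ 2 ^ j - 1) (ha' : ¬ 2 ^ (a + 1) ∣ q ^ 2 ^ j - 1)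
    (d : ℕ) (hd : 2 ^ a ∣ q ^ d - 1) : 2 ^ j ∣ d := by
  have key : ∀ n, ((q : ZMod (2 ^ a)) ^ n = 1 ↔ 2 ^ a ∣ q ^ n - 1) := by
    intro n
    have h1 : 1 ≤ q ^ n := Nat.one_le_iff_ne_zero.2 (pow_ne_zero n (by rintro rfl; exact absurd hq (by decide)))
    rw [← Nat.cast_pow, ← Nat.cast_one, ZMod.natCast_eq_natCast_iff, Nat.ModEq.comm]
    exact Nat.modEq_iff_dvd' h1
  have h1 : orderOf (q : ZMod (2 ^ a)) = 2 ^ (j - 1 + 1) := by
    refine orderOf_eq_prime_pow ?_ ?_
    · rw [key]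
      exact (num2 hq hj ha').2
    · rw [key, Nat.sub_add_cancel hj]
      exact ha
  rw [Nat.sub_add_cancel hj] at h1
  rw [← h1]
  exact orderOf_dvd_of_pow_eq_one ((key d).2 hd)

theorem num3 {q j a : ℕ} (hq : Odd q) (hj : 1 ≤ j) (ha' : ¬ 2 ^ (a + 1) ∣ q ^ 2 ^ j - 1) : 2 ≤ a := by
  by_contra h
  apply ha'
  have h8 : 4 ∣ q ^ 2 ^ j - 1 := by
    have e : q ^ 2 ^ j - 1 = (q ^ 2 ^ (j - 1) - 1) * (q ^ 2 ^ (j - 1) + 1) := by
      rw [← sq_sub, ← pow_succ', Nat.sub_add_cancel hj]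
    have ho : Odd (q ^ 2 ^ (j - 1)) := hq.pow
    obtain ⟨k, hk⟩ := ho
    rw [e, hk, show 2 * k + 1 - 1 = 2 * k by omega, show 2 * k + 1 + 1 = 2 * (k + 1) by omega]
    exact ⟨k * (k + 1), by ring⟩
  refine dvd_trans ?_ h8
  exact pow_dvd_pow 2 (show a + 1 ≤ 2 by omega)

/-! ### The core -/

variable {F V : Type*} [Field F] [Fintype F] [AddCommGroup V] [Module F V] [FiniteDimensional F V]

theorem isom_pow {b : LinearMap.BilinForm F V} {g : Module.End F V} (hg : ∀ u v, b (g u) (g v) = b u v) (n : ℕ)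
    (u v : V) : b ((g ^ n) u) ((g ^ n) v) = b u v := by
  induction n generalizing u v with
  | zero => rfl
  | succ n ih => rw [pow_succ', Module.End.mul_apply, Module.End.mul_apply, hg, ih]

theorem odd_card (h2 : (2 : F) ≠ 0) : Odd (Fintype.card F) := by
  rw [Nat.odd_iff]
  apply FiniteField.odd_card_of_char_ne_two
  intro h
  apply h2
  have := CharP.cast_eq_zero F (ringChar F)
  rwa [h] at this

theorem exists_min [Nontrivial V] (g : Module.End F V) :
    ∃ W : Submodule F V, W ≠ ⊥ ∧ (∀ w ∈ W, g w ∈ W) ∧ Irr g W := by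
  let S : Set (Submodule F V) := {W | W ≠ ⊥ ∧ ∀ w ∈ W, g w ∈ W}
  have hS : S.Nonempty := ⟨⊤, top_ne_bot, fun w _ => Submodule.mem_top⟩
  obtain ⟨W, hW, hmin⟩ := WellFounded.has_min (wellFounded_lt (α := Submodule F V)) S hS
  refine ⟨W, hW.1, hW.2, fun U hU hgU => ?_⟩
  by_cases h0 : U = ⊥
  · exact Or.inl h0
  · right
    by_contra h1
    exact hmin U ⟨h0, hgU⟩ (lt_of_le_of_ne hU h1)

/-- totally isotropic subspaces -/
theorem iso_le {b : LinearMap.BilinForm F V} (hb : ∀ v, (∀ u, b u v = 0) → v = 0) {W : Submodule F V}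
    (h : ∀ v ∈ W, ∀ u ∈ W, b u v = 0) : 2 * finrank F W ≤ finrank F V := by
  let ψ : W →ₗ[F] Dual F (V ⧸ W) :=
    { toFun := fun w => W.liftQ (b.flip (w : V)) (fun u hu => by
        rw [LinearMap.mem_ker]
        exact h w w.2 u hu)
      map_add' := fun w w' => by
        apply W.linearMap_qext
        ext v
        simp
      map_smul' := fun c w => by
        apply W.linearMap_qext
        ext v
        simp }
  have hψ : Function.Injective ψ := by
    rw [injective_iff_map_eq_zero]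
    intro w hw
    apply Subtype.ext
    apply hb
    intro u
    have h1 := LinearMap.congr_fun hw (W.mkQ u)
    exact h1
  have h1 := LinearMap.finrank_le_finrank_of_injective hψ
  rw [Subspace.dual_finrank_eq] at h1
  have h2 := W.finrank_quotient_add_finrank
  omega

theorem core (h2 : (2 : F) ≠ 0) [Nontrivial V] (b : LinearMap.BilinForm F V) (hb : ∀ v, (∀ u, b u v = 0) → v = 0)
    (g : Module.End F V) (hg : ∀ u v, b (g u) (g v) = b u v) {j a : ℕ} (hj : 1 ≤ j)
    (ha : 2 ^ a ∣ Fintype.card F ^ 2 ^ j - 1) (ha' : ¬ 2 ^ (a + 1) ∣ Fintype.card F ^ 2 ^ j - 1)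
    (h3 : ∀ v, (g ^ 2 ^ (a - 1)) v = - v) : 2 * 2 ^ j ≤ finrank F V := by
  have hq := odd_card h2
  have ha2 := num3 hq hj ha'
  have hfinV : Finite V := Module.finite_of_finite F
  obtain ⟨W, hW, hgW, hirr⟩ := exists_min g
  have hn : Nontrivial W := Submodule.nontrivial_iff_ne_bot.2 hW
  set g' : Module.End F W := g.restrict hgW with hg'
  have hpow : ∀ (n : ℕ) (w : W), (((g' ^ n) w : W) : V) = (g ^ n) w := by
    intro n
    induction n with
    | zero => intro w; rfl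
    | succ n ih =>
      intro w
      rw [pow_succ, pow_succ, Module.End.mul_apply, Module.End.mul_apply, ih]
      rfl
  have hirr' := hirr.restrict hgW
  have hneg : g' ^ 2 ^ (a - 1) = -1 := by
    refine LinearMap.ext fun w => Subtype.ext ?_
    rw [hpow, h3]
    rfl
  have hone : g' ^ 2 ^ (a - 1 + 1) = 1 := by
    rw [pow_succ, pow_mul, hneg, pow_two]
    exact LinearMap.ext fun v => neg_neg v
  have hne : ¬ g' ^ 2 ^ (a - 1) = 1 := by
    rw [hneg]
    intro h
    obtain ⟨w, hw⟩ := exists_ne (0 : W)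
    apply hw
    have h4 := LinearMap.congr_fun h w
    change - w = w at h4
    have h5 : (2 : F) • w = 0 := by
      rw [two_smul]
      nth_rewrite 1 [← h4]
      exact neg_add_cancel w
    rcases smul_eq_zero.1 h5 with h6 | h6
    · exact absurd h6 h2
    · exact h6
  have hord : orderOf g' = 2 ^ a := by
    have := orderOf_eq_prime_pow hne hone
    rwa [Nat.sub_add_cancel (by omega : 1 ≤ a)] at this
  have h0 : g' ≠ 0 := by
    intro h
    rw [h, zero_pow (by positivity)] at hone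
    exact absurd hone (by simp)
  have hcard : Nat.card W = Fintype.card F ^ finrank F W := by
    rw [Module.natCard_eq_pow_finrank (K := F), Nat.card_eq_fintype_card]
  have hd : 2 ^ j ∣ finrank F W := by
    apply num1 hq hj ha ha'
    rw [← hcard, ← hord]
    exact orderOf_dvd_of_pow_eq_one (pow_card_sub_one hirr' rfl h0)
  have hd0 : 0 < finrank F W := finrank_pos
  have hle : finrank F W ≤ finrank F V := Submodule.finrank_le W
  -- the radical
  let U : Submodule F W :=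
    { carrier := {v | ∀ u : W, b u v = 0}
      add_mem' := fun {x y} hx hy u => by
        rw [Submodule.coe_add, map_add, hx u, hy u, add_zero]
      zero_mem' := fun u => by rw [Submodule.coe_zero, map_zero]
      smul_mem' := fun c v hv u => by rw [Submodule.coe_smul, map_smul, hv u, smul_zero] }
  have hU : ∀ u ∈ U, g' u ∈ U := by
    intro v hv u
    have h1 : u = g' ((g' ^ (2 ^ a - 1)) u) := by
      rw [← Module.End.mul_apply, ← pow_succ', Nat.sub_add_cancel Nat.one_le_two_pow, ← hord, pow_orderOf_eq_one]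
      rfl
    rw [h1]
    change b (g _) (g v) = 0
    rw [hg]
    exact hv _
  rcases hirr' U hU with h | h
  · -- nondegenerate
    obtain ⟨m, hm, hun⟩ := unitary hirr' (b.restrict W) (fun u v => hg u v) (fun v hv => by
        have h1 : v ∈ U := hv
        rw [h] at h1
        exact h1) (l := 2 ^ a - 1) (by rw [Nat.sub_add_cancel Nat.one_le_two_pow, ← hord, pow_orderOf_eq_one]) (by
        intro h1
        have h4 := orderOf_dvd_of_pow_eq_one h1
        rw [hord] at h4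
        have h5 := Nat.le_of_dvd (by norm_num) h4
        have h6 : 2 ^ 2 ≤ 2 ^ a := Nat.pow_le_pow_right (by norm_num) ha2
        omega)
    have h1 := orderOf_dvd_of_pow_eq_one (hun g' rfl (fun u v => hg u v))
    rw [hord, Nat.card_eq_fintype_card] at h1
    by_contra hlt
    obtain ⟨c, hc⟩ := hd
    have hc1 : c = 1 := by
      have : 0 < 2 ^ j := Nat.two_pow_pos j
      rcases c with _ | _ | c
      · rw [hc] at hd0; omega
      · rfl
      · exfalso
        have : 2 ^ j * (c + 1 + 1) = 2 * 2 ^ j + 2 ^ j * c := by ring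
        omega
    have hm2 : m = 2 ^ (j - 1) := by
      have : 2 ^ j = 2 * 2 ^ (j - 1) := by rw [← pow_succ', Nat.sub_add_cancel hj]
      rw [hc1, mul_one, hm, this] at hc
      omega
    rw [hm2] at h1
    exact (num2 hq hj ha').1 h1
  · have h4 : 2 * finrank F W ≤ finrank F V := by
      apply iso_le hb
      intro v hv u hu
      have h1 : (⟨v, hv⟩ : W) ∈ U := by rw [h]; trivial
      exact h1 ⟨u, hu⟩
    have h5 := Nat.le_of_dvd hd0 hd
    omega

/-- the `(-1)`-eigenspace -/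
def Vm (t : Module.End F V) : Submodule F V := LinearMap.ker (t + 1)

theorem mem_Vm {t : Module.End F V} {v : V} : v ∈ Vm t ↔ t v = - v := by
  rw [Vm, LinearMap.mem_ker, LinearMap.add_apply, Module.End.one_apply, ← eq_neg_iff_add_eq_zero]

/-- **2-elements of symplectic groups**, refined form. -/
theorem two_elt' (h2 : (2 : F) ≠ 0) (b : LinearMap.BilinForm F V) (hb : ∀ v, (∀ u, b u v = 0) → v = 0)
    (g : Module.End F V) (hg : ∀ u v, b (g u) (g v) = b u v) {j a : ℕ} (hj : 1 ≤ j)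
    (ha : 2 ^ a ∣ Fintype.card F ^ 2 ^ j - 1) (ha' : ¬ 2 ^ (a + 1) ∣ Fintype.card F ^ 2 ^ j - 1)
    (h1 : g ^ 2 ^ a = 1) (h3 : g ^ 2 ^ (a - 1) ≠ 1) : 2 * 2 ^ j ≤ finrank F (Vm (g ^ 2 ^ (a - 1))) := by
  have hq := odd_card h2
  have ha2 := num3 hq hj ha'
  set t := g ^ 2 ^ (a - 1) with ht
  have htt : t * t = 1 := by
    rw [ht, ← pow_add, ← two_mul, ← pow_succ', Nat.sub_add_cancel (by omega), h1]
  have htt' : ∀ v, t (t v) = v := fun v => LinearMap.congr_fun htt v
  have htg : t * g = g * t := by rw [ht, ← pow_succ, ← pow_succ']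
  have hti : ∀ u v, b (t u) (t v) = b u v := isom_pow hg _
  have hgW : ∀ w ∈ Vm t, g w ∈ Vm t := by
    intro w hw
    rw [mem_Vm] at hw ⊢
    have h4 : t (g w) = g (t w) := LinearMap.congr_fun htg w
    rw [h4, hw, map_neg]
  have hn : Nontrivial (Vm t) := by
    rw [Submodule.nontrivial_iff_ne_bot, Submodule.ne_bot_iff]
    by_contra hc
    push Not at hc
    apply h3
    refine LinearMap.ext fun v => ?_
    have h4 := hc (t v - v) (by rw [mem_Vm, map_sub, htt', neg_sub])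
    exact sub_eq_zero.1 h4
  set g' : Module.End F (Vm t) := g.restrict hgW with hg'
  have hpow : ∀ (n : ℕ) (w : Vm t), (((g' ^ n) w : Vm t) : V) = (g ^ n) w := by
    intro n
    induction n with
    | zero => intro w; rfl
    | succ n ih =>
      intro w
      rw [pow_succ, pow_succ, Module.End.mul_apply, Module.End.mul_apply, ih]
      rfl
  refine core h2 (b.restrict (Vm t)) ?_ g' (fun u v => hg u v) hj ha ha' ?_
  · intro v hv
    apply Subtype.ext
    apply hb
    intro u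
    have h5 : b (t u - u) v = 0 := hv ⟨t u - u, by rw [mem_Vm, map_sub, htt', neg_sub]⟩
    have h6 : b (t u + u) v = 0 := by
      have h7 := hti (t u + u) v
      rw [mem_Vm.1 v.2, map_add, htt', add_comm u, map_neg] at h7
      have h8 : (2 : F) * b (t u + u) v = 0 := by
        rw [two_mul]
        nth_rewrite 1 [← h7]
        exact neg_add_cancel _
      rcases mul_eq_zero.1 h8 with h9 | h9
      · exact absurd h9 h2
      · exact h9
    rw [map_sub, LinearMap.sub_apply] at h5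
    rw [map_add, LinearMap.add_apply] at h6
    have h8 : (2 : F) * b u v = 0 := by linear_combination h6 - h5
    rcases mul_eq_zero.1 h8 with h9 | h9
    · exact absurd h9 h2
    · exact h9
  · intro v
    apply Subtype.ext
    rw [hpow]
    exact mem_Vm.1 v.2

theorem two_elt {F V : Type*} [Field F] [Fintype F] [AddCommGroup V] [Module F V] [FiniteDimensional F V]
    (h2 : (2 : F) ≠ 0) (b : LinearMap.BilinForm F V) (hb : ∀ v, (∀ u, b u v = 0) → v = 0) (_halt : b.IsAlt)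
    (g : Module.End F V) (hg : ∀ u v, b (g u) (g v) = b u v) {j a : ℕ} (hj : 1 ≤ j)
    (ha : 2 ^ a ∣ Fintype.card F ^ 2 ^ j - 1) (ha' : ¬ 2 ^ (a + 1) ∣ Fintype.card F ^ 2 ^ j - 1)
    (h1 : g ^ 2 ^ a = 1) (h3 : g ^ 2 ^ (a - 1) ≠ 1) : 2 * 2 ^ j ≤ Module.finrank F V :=
  (two_elt' h2 b hb g hg hj ha ha' h1 h3).trans (Submodule.finrank_le _)

/-! ### `PSp` -/

theorem num4 {q k a : ℕ} (hq : Odd q) (hk : 1 ≤ k) (ha : 2 ^ a ∣ q ^ 2 ^ k - 1) (ha' : ¬ 2 ^ (a + 1) ∣ q ^ 2 ^ k - 1) :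
    2 ^ (a + 1) ∣ q ^ 2 ^ (k + 1) - 1 ∧ ¬ 2 ^ (a + 1 + 1) ∣ q ^ 2 ^ (k + 1) - 1 := by
  have e : q ^ 2 ^ (k + 1) - 1 = (q ^ 2 ^ k - 1) * (q ^ 2 ^ k + 1) := by
    rw [← sq_sub, ← pow_succ']
  obtain ⟨m, hm⟩ : ∃ m, q ^ 2 ^ k = 4 * m + 1 := by
    have e' : q ^ 2 ^ k = (q ^ 2 ^ (k - 1)) ^ 2 := by
      rw [← pow_mul, ← pow_succ, Nat.sub_add_cancel hk]
    have ho : Odd (q ^ 2 ^ (k - 1)) := hq.pow
    obtain ⟨r, hr⟩ := ho
    exact ⟨r * (r + 1), by rw [e', hr]; ring⟩
  rw [e]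
  constructor
  · rw [pow_succ]
    exact mul_dvd_mul ha ⟨2 * m + 1, by omega⟩
  · intro h
    apply ha'
    have h1 : q ^ 2 ^ k + 1 = 2 * (2 * m + 1) := by omega
    rw [h1, pow_succ, ← mul_assoc, mul_right_comm] at h
    have h2 := Nat.dvd_of_mul_dvd_mul_right (by norm_num) h
    refine Nat.Coprime.dvd_of_dvd_mul_right ?_ h2
    apply Nat.Coprime.pow_left
    rw [Nat.coprime_two_left]
    exact ⟨m, rfl⟩

open Cfsg.Agent.S0765 Cfsg.Agent.LieClassical.SympCenter in
theorem no_two {F : Type*} [Field F] [Fintype F] (h2 : (2 : F) ≠ 0) {n j a : ℕ} (_hj : 1 ≤ j) (hn : 1 ≤ n)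
    (hnm : n ≤ 2 * 2 ^ j) (ha : 2 ^ a ∣ Fintype.card F ^ 2 ^ (j + 1) - 1)
    (ha' : ¬ 2 ^ (a + 1) ∣ Fintype.card F ^ 2 ^ (j + 1) - 1) (x : Cfsg.PSp n F) : orderOf x ≠ 2 ^ a := by
  intro hx
  have hq := odd_card h2
  have ha2 := num3 hq (by omega) ha'
  obtain ⟨A, rfl⟩ := QuotientGroup.mk_surjective x
  let b : LinearMap.BilinForm F (Fin n ⊕ Fin n → F) :=
    LinearMap.mk₂ F (Cfsg.sympForm n F) form_add_left form_smul_left form_add_right form_smul_right
  have hb : ∀ v, (∀ u, b u v = 0) → v = 0 := by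
    intro v hv
    by_contra hv0
    obtain ⟨u, hu⟩ := form_nondeg v hv0
    exact hu (hv u)
  let ρ : Matrix.symplecticGroup (Fin n) F →* Module.End F (Fin n ⊕ Fin n → F) :=
    ((Matrix.toLinAlgEquiv' : Matrix (Fin n ⊕ Fin n) (Fin n ⊕ Fin n) F ≃ₐ[F] _) :
      Matrix (Fin n ⊕ Fin n) (Fin n ⊕ Fin n) F →* _).comp (Matrix.symplecticGroup (Fin n) F).subtype
  have hρ : ∀ (B : Matrix.symplecticGroup (Fin n) F) (v : Fin n ⊕ Fin n → F), ρ B v = (B : Matrix _ _ F).mulVec v :=
    fun B v => rfl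
  have hρi : ∀ B : Matrix.symplecticGroup (Fin n) F, ∀ u v, b (ρ B u) (ρ B v) = b u v :=
    fun B u v => form_mulVec B.1 B.2 u v
  have hscal : ∀ (B : Matrix.symplecticGroup (Fin n) F) (c : F), (∀ v, ρ B v = c • v) →
      B ∈ Subgroup.center (Matrix.symplecticGroup (Fin n) F) := by
    intro B c h
    rw [mem_center_iff]
    refine ⟨c, ?_⟩
    have h1 : Matrix.toLin' B.1 = Matrix.toLin' (c • (1 : Matrix (Fin n ⊕ Fin n) (Fin n ⊕ Fin n) F)) := by
      refine LinearMap.ext fun v => ?_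
      rw [Matrix.toLin'_apply, Matrix.toLin'_apply, Matrix.smul_mulVec, Matrix.one_mulVec]
      exact h v
    exact Matrix.toLin'.injective h1
  have hfr : finrank F (Fin n ⊕ Fin n → F) = 2 * n := by
    rw [Module.finrank_fintype_fun_eq_card, Fintype.card_sum, Fintype.card_fin]
    ring
  have hc : A ^ 2 ^ a ∈ Subgroup.center (Matrix.symplecticGroup (Fin n) F) := by
    rw [← QuotientGroup.eq_one_iff, QuotientGroup.mk_pow, ← hx, pow_orderOf_eq_one]
  have hc' : A ^ 2 ^ (a - 1) ∉ Subgroup.center (Matrix.symplecticGroup (Fin n) F) := by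
    intro h
    rw [← QuotientGroup.eq_one_iff, QuotientGroup.mk_pow] at h
    have h1 := orderOf_dvd_of_pow_eq_one h
    rw [hx] at h1
    have h3 := Nat.le_of_dvd (Nat.two_pow_pos _) h1
    have h4 : 2 ^ a = 2 * 2 ^ (a - 1) := by rw [← pow_succ', Nat.sub_add_cancel (by omega)]
    have := Nat.two_pow_pos (a - 1)
    omega
  obtain ⟨c, hcc⟩ := (mem_center_iff n _).1 hc
  have hc1 : c * c = 1 := sq_eq_one_of_smul_mem hn (hcc ▸ (A ^ 2 ^ a).2)
  have hcv : ∀ v, ρ (A ^ 2 ^ a) v = c • v := by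
    intro v
    rw [hρ, hcc, Matrix.smul_mulVec, Matrix.one_mulVec]
  rcases mul_self_eq_one_iff.1 hc1 with rfl | rfl
  · have h1 : ρ A ^ 2 ^ a = 1 := by
      rw [← map_pow]
      refine LinearMap.ext fun v => ?_
      rw [hcv, one_smul]
      rfl
    have h3 : ρ A ^ 2 ^ (a - 1) ≠ 1 := by
      intro h
      apply hc'
      refine hscal _ 1 fun v => ?_
      rw [map_pow, h, one_smul]
      rfl
    have h4 := two_elt' h2 b hb (ρ A) (hρi A) (by omega) ha ha' h1 h3
    have h5 : Vm (ρ A ^ 2 ^ (a - 1)) < ⊤ := by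
      rw [lt_top_iff_ne_top]
      intro h
      apply hc'
      refine hscal _ (-1) fun v => ?_
      have h6 : v ∈ Vm (ρ A ^ 2 ^ (a - 1)) := by rw [h]; trivial
      rw [map_pow, mem_Vm.1 h6, neg_smul, one_smul]
    have h6 := Submodule.finrank_lt_finrank_of_lt h5
    rw [finrank_top, hfr] at h6
    have : 2 ^ (j + 1) = 2 * 2 ^ j := pow_succ' 2 j
    omega
  · have h1 : ρ A ^ 2 ^ a = -1 := by
      rw [← map_pow]
      refine LinearMap.ext fun v => ?_
      rw [hcv, neg_smul, one_smul]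
      rfl
    have h3 : ρ A ^ 2 ^ (a + 1 - 1) ≠ 1 := by
      rw [Nat.add_sub_cancel, h1]
      intro h
      have h6 := LinearMap.congr_fun h (fun _ => 1)
      have h7 := congrFun h6 (Sum.inl ⟨0, hn⟩)
      change (-1 : F) = 1 at h7
      apply h2
      linear_combination (-1 : F) * h7
    have h4 : ρ A ^ 2 ^ (a + 1) = 1 := by
      rw [pow_succ, pow_mul, h1, pow_two]
      exact LinearMap.ext fun v => neg_neg v
    obtain ⟨h5, h6⟩ := num4 hq (by omega : 1 ≤ j + 1) ha ha'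
    have h7 := (two_elt' h2 b hb (ρ A) (hρi A) (by omega) h5 h6 h4 h3).trans (Submodule.finrank_le _)
    rw [hfr] at h7
    have : 2 ^ (j + 1 + 1) = 4 * 2 ^ j := by ring
    have := Nat.two_pow_pos j
    omega

end Cfsg.Agent.H415.SpTwo
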