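import Cfsg.Agent.H851.SimsDefs
import Cfsg.Prelude.Def_Classification2
import Cfsg.Agent.H70.SzOut
import Cfsg.Agent.H71.ReeOut
import Cfsg.Agent.ChevalleyStructure.Ree.Data
import Cfsg.Agent.Transfer.FusionBasic
import Cfsg.Agent.ClosedTwo.Elem

/-!
# The Sims conjecture (S3386): Suzuki and Ree groups (helper415)

* `bound_of_ti` : in the configuration `Cfg c p S A Q g` with `A ⊓ S ≠ 1` and `S ≅ Y` with a Sylow `p`-subgroup `U` of `Y` which
  is a TI set and is normalised by a subgroup `B ≥ U` of order `|U| k`: `k ≤ c`;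
* `sz_bound`, `ree_bound`.
-/

set_option autoImplicit false

namespace Cfsg.Agent.H415.SimsRk

open Subgroup Cfsg Cfsg.Agent.H851.Sims

universe u v

/-- in the configuration, `Q ⊓ S ≠ 1` -/
theorem inf_ne_bot {G : Type u} [Group G] {c p : ℕ} {S A Q : Subgroup G} {g : G} (h : Cfg c p S A Q g)
    (hAS : A ⊓ S ≠ ⊥) : Q ⊓ S ≠ ⊥ := by
  intro h0
  apply hAS
  rw [eq_bot_iff]
  intro x hx
  obtain ⟨hxA, hxS⟩ := mem_inf.1 hx
  have h1 : x ∈ centralizer (Q : Set G) := by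
    rw [mem_centralizer_iff]
    intro y hy
    have e1 : y * x * y⁻¹ * x⁻¹ ∈ S := mul_mem (h.norm.conj_mem x hxS y) (inv_mem hxS)
    have e2 : y * x * y⁻¹ * x⁻¹ ∈ Q := by
      have e3 : x * y⁻¹ * x⁻¹ ∈ Q := (mem_normalizer_iff.1 (h.Qnorm hxA) y⁻¹).1 (inv_mem hy)
      have e4 := mul_mem hy e3
      rwa [show y * (x * y⁻¹ * x⁻¹) = y * x * y⁻¹ * x⁻¹ by group] at e4
    have e5 : y * x * y⁻¹ * x⁻¹ ∈ Q ⊓ S := mem_inf.2 ⟨e2, e1⟩
    rw [h0, mem_bot] at e5
    exact mul_inv_eq_iff_eq_mul.1 (mul_inv_eq_one.1 e5)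
  have h2 : x ∈ Q ⊓ S := mem_inf.2 ⟨h.Qcent (mem_inf.2 ⟨h1, hxA⟩), hxS⟩
  rwa [h0] at h2

/-- a nontrivial subgroup of `S` which is a `p`-group is not normal in `G` -/
theorem normalizer_eq {G : Type u} [Group G] [Finite G] {c p : ℕ} {S A Q : Subgroup G} {g : G} (h : Cfg c p S A Q g)
    {V : Subgroup G} (hV : V ≤ S) (hV1 : V ≠ ⊥) (hVp : IsPGroup p V) (hA : A ≤ normalizer (V : Set G)) :
    normalizer (V : Set G) = A := by
  rcases h.coatom.le_iff.1 hA with h1 | h1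
  · exfalso
    have hVn : V.Normal := normalizer_eq_top_iff.1 h1
    have : IsSimpleGroup S := h.simple
    have hn : (V.subgroupOf S).Normal := hVn.subgroupOf S
    have hfact : Fact p.Prime := ⟨h.prime⟩
    have hVS : V = S := by
      rcases hn.eq_bot_or_eq_top with h2 | h2
      · exfalso
        apply hV1
        rw [subgroupOf_eq_bot, disjoint_iff, inf_eq_left.2 hV] at h2
        exact h2
      · rw [subgroupOf_eq_top] at h2
        exact le_antisymm hV h2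
    rw [hVS] at hVp
    have hnt : Nontrivial S := inferInstance
    have hc := hVp.center_nontrivial
    rcases (inferInstance : (center S).Normal).eq_bot_or_eq_top with h2 | h2
    · rw [h2] at hc
      exact absurd hc (not_nontrivial _)
    · obtain ⟨a, ha, b, hb, hab⟩ := h.nonab
      apply hab
      have h3 : (⟨b, hb⟩ : S) ∈ center S := by rw [h2]; trivial
      exact congrArg Subtype.val (mem_center_iff.1 h3 ⟨a, ha⟩)
  · exact h1

/-- **The abstract bound.** -/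
theorem bound_of_ti {G : Type u} [Group G] [Finite G] {c p : ℕ} {S A Q : Subgroup G} {g : G} (h : Cfg c p S A Q g)
    (hAS : A ⊓ S ≠ ⊥) {Y : Type v} [Group Y] [Finite Y] (e : S ≃* Y) {U B : Subgroup Y} (hU : IsPGroup p U)
    (hidx : ¬ p ∣ U.index) (hUB : U ≤ B) (hB : ∀ b ∈ B, ∀ u ∈ U, b * u * b⁻¹ ∈ U)
    (hti : ∀ x ∈ U, x ≠ 1 → ∀ y : Y, y * x * y⁻¹ ∈ U → ∀ z ∈ U, y * z * y⁻¹ ∈ U) {k : ℕ}
    (hk : Nat.card B = Nat.card U * k) : k ≤ c := by
  have hfact : Fact p.Prime := ⟨h.prime⟩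
  have hR1 : Q ⊓ S ≠ ⊥ := inf_ne_bot h hAS
  -- the embedding `j₀ : Y → G`
  let j₀ : Y →* G := S.subtype.comp e.symm.toMonoidHom
  have hj₀ : Function.Injective j₀ := S.subtype_injective.comp e.symm.injective
  have hj₀S : ∀ x ∈ S, ∃ y, j₀ y = x := fun x hx => ⟨e ⟨x, hx⟩, by
    show ((e.symm (e ⟨x, hx⟩) : S) : G) = x
    rw [e.symm_apply_apply]⟩
  -- adjust such that `Q ⊓ S` is in the image of `U`
  have hRp : IsPGroup p ((Q ⊓ S).comap j₀) := (h.Qp.to_le inf_le_left).comap_of_injective j₀ hj₀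
  obtain ⟨y, hy⟩ := ClosedTwo.Elem.exists_conj_le (hU.toSylow hidx) hRp
  obtain ⟨j, hj⟩ : ∃ j : Y →* G, j = j₀.comp (MulAut.conj y⁻¹).toMonoidHom := ⟨_, rfl⟩
  have hjj : ∀ x, j x = j₀ (y⁻¹ * x * y) := by
    intro x
    rw [hj, MonoidHom.comp_apply]
    show j₀ (y⁻¹ * x * y⁻¹⁻¹) = _
    rw [inv_inv]
  have hjinj : Function.Injective j := by
    rw [hj]
    exact hj₀.comp (MulAut.conj y⁻¹).injective
  have hjS : ∀ x, j x ∈ S := fun x => by
    rw [hjj]
    exact (e.symm (y⁻¹ * x * y)).2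
  have hjsurj : ∀ x ∈ S, ∃ z, j z = x := fun x hx => by
    obtain ⟨z, hz⟩ := hj₀S x hx
    exact ⟨y * z * y⁻¹, by rw [hjj, ← hz]; congr 1; group⟩
  have hRU : ∀ r ∈ Q ⊓ S, ∃ u ∈ U, j u = r := by
    intro r hr
    obtain ⟨z, hz⟩ := hj₀S r (mem_inf.1 hr).2
    refine ⟨y * z * y⁻¹, hy z (by rw [mem_comap, hz]; exact hr), ?_⟩
    rw [hjj, ← hz]; congr 1; group
  -- `V = j(U)` is normalised by `A`
  have hAV : A ≤ normalizer ((U.map j : Subgroup G) : Set G) := by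
    intro a ha
    refine Transfer.FusionBasic.mem_normalizer_of_conj_mem ?_
    rintro _ ⟨u, hu, rfl⟩
    -- `φ` : the automorphism of `Y` induced by `a`
    have hφ : ∀ z : Y, ∃ w : Y, j w = a * j z * a⁻¹ := fun z => hjsurj _ (h.norm.conj_mem _ (hjS z) a)
    choose φ hφ using hφ
    have hφm : ∀ z w, φ (z * w) = φ z * φ w := fun z w => hjinj (by
      rw [hφ, map_mul, map_mul, hφ, hφ]; group)
    let Φ : Y →* Y := MonoidHom.mk' φ hφm
    obtain ⟨t, ht⟩ := ClosedTwo.Elem.exists_conj_le (hU.toSylow hidx) (hU.map Φ)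
    have ht' : ∀ u ∈ U, t * φ u * t⁻¹ ∈ U := fun u hu => ht (φ u) ⟨u, hu, rfl⟩
    -- a nontrivial element of `R`
    obtain ⟨⟨r, hr⟩, hr1⟩ := Subgroup.ne_bot_iff_exists_ne_one.1 hR1
    have hr1' : r ≠ 1 := fun h0 => hr1 (Subtype.ext h0)
    have hra : a⁻¹ * r * a ∈ Q ⊓ S := by
      refine mem_inf.2 ⟨?_, ?_⟩
      · have := (mem_normalizer_iff.1 (h.Qnorm (inv_mem ha)) r).1 (mem_inf.1 hr).1
        rwa [inv_inv] at this
      · have := h.norm.conj_mem r (mem_inf.1 hr).2 a⁻¹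
        rwa [inv_inv] at this
    obtain ⟨u₀, hu₀, hu₀r⟩ := hRU r hr
    obtain ⟨u₁, hu₁, hu₁r⟩ := hRU _ hra
    have e1 : φ u₁ = u₀ := hjinj (by rw [hφ, hu₁r, hu₀r]; group)
    have hu₀1 : u₀ ≠ 1 := by
      rintro rfl
      rw [map_one] at hu₀r
      exact hr1' hu₀r.symm
    have e2 : t * u₀ * t⁻¹ ∈ U := by rw [← e1]; exact ht' u₁ hu₁
    have e3 := hti u₀ hu₀ hu₀1 t e2
    have e4 : t ∈ normalizer (U : Set Y) := Transfer.FusionBasic.mem_normalizer_of_conj_mem e3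
    have e5 : φ u ∈ U := by
      have e6 := (mem_normalizer_iff.1 (inv_mem e4) _).1 (ht' u hu)
      rwa [show t⁻¹ * (t * φ u * t⁻¹) * t⁻¹⁻¹ = φ u by group] at e6
    rw [← hφ]
    exact ⟨_, e5, rfl⟩
  have hVS : U.map j ≤ S := by
    rintro _ ⟨u, -, rfl⟩
    exact hjS u
  have hRV : Q ⊓ S ≤ U.map j := fun r hr => by
    obtain ⟨u, hu, e⟩ := hRU r hr
    exact ⟨u, hu, e⟩
  have hV1 : U.map j ≠ ⊥ := fun h0 => hR1 (by rw [eq_bot_iff, ← h0]; exact hRV)
  have hNV := normalizer_eq h hVS hV1 (hU.map j) hAV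
  have hVA : U.map j ≤ A := by
    rw [← hNV]
    exact le_normalizer
  have hVQ : U.map j ≤ Q := h.Qmax _ hVA hAV (hU.map j)
  have hBA : B.map j ≤ A := by
    rw [← hNV]
    rintro _ ⟨b, hb, rfl⟩
    refine Transfer.FusionBasic.mem_normalizer_of_conj_mem ?_
    rintro _ ⟨u, hu, rfl⟩
    exact ⟨b * u * b⁻¹, hB b hb u hu, by rw [map_mul, map_mul, map_inv]⟩
  have hBS : B.map j ≤ S := by
    rintro _ ⟨u, -, rfl⟩
    exact hjS u
  have hQB : Q ⊓ B.map j = U.map j := by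
    apply le_antisymm
    · intro x hx
      exact hRV (mem_inf.2 ⟨(mem_inf.1 hx).1, hBS (mem_inf.1 hx).2⟩)
    · exact le_inf hVQ (Subgroup.map_mono hUB)
  have h1 : Q.relIndex (B.map j) ≤ Q.relIndex A := relIndex_le_of_le_right hBA (by
    have := Subgroup.index_ne_zero_of_finite (H := Q.subgroupOf A)
    exact this)
  rw [← inf_relIndex_right, hQB] at h1
  have h2 : Nat.card (U.map j) * (U.map j).relIndex (B.map j) = Nat.card (B.map j) := by
    rw [← relIndex_bot_left, ← relIndex_bot_left]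
    exact relIndex_mul_relIndex _ _ _ bot_le (Subgroup.map_mono hUB)
  rw [Nat.card_congr (U.equivMapOfInjective j hjinj).symm.toEquiv,
    Nat.card_congr (B.equivMapOfInjective j hjinj).symm.toEquiv, hk] at h2
  have h3 : (U.map j).relIndex (B.map j) = k := Nat.eq_of_mul_eq_mul_left Nat.card_pos h2
  rw [h3] at h1
  exact h1.trans h.Qidx

/-! ### Suzuki groups -/

section suz

open Cfsg.Agent.ThreePrime Cfsg.Agent.ThreePrime.SzRel Cfsg.Agent.LieRecognition.SzMatrix Cfsg.Agent.H70.SzOut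

/-- **Suzuki groups.** -/
theorem sz_bound (c : ℕ) : ∃ F : ℕ, ∀ {G : Type u} [Group G] [Finite G] (S A Q : Subgroup G) (g : G), Cfg c 2 S A Q g →
    A ⊓ S ≠ ⊥ → Lie.IsoSuzuki S → Nat.card S ≤ F := by
  refine ⟨(c + 1) ^ 2 * c * ((c + 1) ^ 2 + 1), ?_⟩
  rintro G _ _ S A Q g h hAS ⟨F, iF, iF', m, hm, hF, ⟨e⟩⟩
  have H := good hF
  obtain ⟨P, hP⟩ := exists_sylow hm hF
  have hT : (ofGood (good hF)).T = (good hF).unip := by
    ext g
    rw [(good hF).mem_unip_iff]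
    rfl
  have hfin : Finite ↥(Cfsg.Lie.Sz F (2 ^ (m + 1))) := Finite.of_equiv _ e.toEquiv
  have hcF : Nat.card F = 2 ^ (2 * m + 1) := by rw [Nat.card_eq_fintype_card, hF]
  have hb := bound_of_ti h hAS e (U := H.unip) (B := H.borel) (k := Nat.card F - 1)
    (by rw [← hT, ← hP]; exact P.2) (by rw [← hT, ← hP]; exact P.not_dvd_index) H.unip_le_borel H.borel_normalizes
    (by
      intro x hx hx1 y hy z hz
      rw [← hT] at hx hy hz ⊢
      exact (mem_normalizer_iff.1 ((ofGood (good hF)).ti hx hx1 hy) z).1 hz)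
    (by rw [H.card_borel, H.card_unip])
  have hq : 2 ^ (2 * m + 1) ≤ c + 1 := by
    rw [hcF] at hb
    omega
  rw [Nat.card_congr e.toEquiv, (Cfsg.Agent.S1163.result hm hF).1]
  have h2 : (2 ^ (2 * m + 1)) ^ 2 ≤ (c + 1) ^ 2 := Nat.pow_le_pow_left hq 2
  exact Nat.mul_le_mul (Nat.mul_le_mul h2 (by omega)) (by omega)

end suz

/-! ### Ree groups -/

section ree

open Cfsg.Lie Cfsg.Agent.ChevalleyStructure.Ree Cfsg.Agent.ChevalleyStructure.Ree.Normal Cfsg.Agent.H71 Cfsg.Agent.LieRecognition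
  Cfsg.Agent.LieRecognition.ReeSylowThree Cfsg.Agent.LieRecognition.ReeSplit

/-- **Ree groups.** -/
theorem ree_bound (c : ℕ) : ∃ F : ℕ, ∀ {G : Type u} [Group G] [Finite G] (S A Q : Subgroup G) (g : G), Cfg c 3 S A Q g →
    A ⊓ S ≠ ⊥ → Lie.IsoRee S → Nat.card S ≤ F := by
  refine ⟨(c + 1) ^ 3 * c * ((c + 1) ^ 3 + 1), ?_⟩
  rintro G _ _ S A Q g h hAS ⟨K, iK, iK', m, hm, hK, ⟨e⟩⟩
  obtain ⟨θ, ctx⟩ := exists_ctx hK
  have D := Data.data ctx
  have hfin : Finite ↥(twistedG2 K (3 ^ m)) := Finite.of_equiv _ e.toEquiv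
  obtain ⟨P, hP⟩ := ReeOut.exists_sylow hK D
  have hb := bound_of_ti h hAS e (U := uSub D) (B := bSub D) (k := Fintype.card K - 1)
    (by rw [← hP]; exact P.2) (by
      have : Fact (Nat.Prime 3) := ⟨by norm_num⟩
      rw [← hP]; exact P.not_dvd_index) (uSub_le_bSub D) (fun b hb u hu => conj_mem_uSub D hb hu)
    (by
      intro x hx hx1 y hy z hz
      exact conj_mem_of D hy hx (by
        intro h0
        exact hx1 (conj_eq_one_iff.1 h0)) (by group) z hz)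
    (by rw [card_bSub, card_uSub])
  have hq : Fintype.card K ≤ c + 1 := by omega
  rw [Nat.card_congr e.toEquiv, ReeSylowThree.card_eq D]
  have h2 : (Fintype.card K) ^ 3 ≤ (c + 1) ^ 3 := Nat.pow_le_pow_left hq 3
  exact Nat.mul_le_mul (Nat.mul_le_mul h2 (by omega)) (by omega)

end ree

end Cfsg.Agent.H415.SimsRk
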