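import Cfsg.Agent.H91.SympStd
import Cfsg.Agent.Nodes.WittModel
import Cfsg.Agent.Nodes.WittRoot
import Cfsg.Agent.H396.CommTab1
import Cfsg.Agent.H249.OfRGD

/-!
# The Borel subgroup of `PSp` fixes the standard totally isotropic flag (helper415, for S2195)

* `fl m F i` : the span of `e 0, …, e (i - 1)`;
* `borel_fixes` : the elements of the Borel subgroup of the root group datum of `PSp m F` come from isometries fixing
  all the `fl m F i`;
* `exists_dat` : the datum `H249.Dat` of `PSp m F` with this property.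
-/

set_option autoImplicit false

namespace Cfsg.Agent.H415.SpFlag

open Cfsg
open Cfsg.Agent.ChevalleyStructure.CoxeterGeom Cfsg.Agent.Tits.Roots
open Cfsg.Agent.Nodes Cfsg.Agent.Nodes.TypeC Cfsg.Agent.Nodes.Comb Cfsg.Agent.Nodes.Reps Cfsg.Agent.Nodes.WittRoot
  Cfsg.Agent.Nodes.BNOf Cfsg.Agent.Nodes.RGDLib Cfsg.Agent.Nodes.WittAll
open Cfsg.Agent.TitsThree Cfsg.Agent.TitsThree.Siegel Cfsg.Agent.TitsThree.WittFrame Cfsg.Agent.TitsThree.SpIdent
open Cfsg.Agent.ClassicalGeometry.SympBasic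

/-! ### Positive roots -/

section Root

variable {n : ℕ}

theorem sum_ee (x : Fin n → ℤ) (m : Fin n) :
    ∑ k ∈ Finset.Iic m, TypeC.ee x k = (if (m : ℕ) + 1 < n then 1 else 2) * x m := by
  have h1 : ∀ k, TypeC.ee x k = ∑ j, x j * bt j k := by
    intro k
    simp [TypeC.ee, Finset.sum_apply]
  simp only [h1]
  rw [Finset.sum_comm]
  simp only [← Finset.mul_sum, sum_bt]
  rw [Finset.sum_eq_single m]
  · simp only [if_true]
    split_ifs <;> ring
  · intro j _ hj
    simp [Ne.symm hj]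
  · simp

theorem sum_wt (a : Fin n × Bool) (m : Fin n) :
    ∑ k ∈ Finset.Iic m, wt a k = if a.1 ≤ m then (if a.2 then 1 else -1) else 0 := by
  simp only [wt, Finset.sum_pi_single', Finset.mem_Iic]

/-- positive pairs of signed indices -/
def Good (a b : Fin n × Bool) : Prop := a.2 = true ∧ (b.2 = true ∨ (a.1 < b.1 ∧ b.2 = false))

theorem good_of_nonneg {x : Fin n → ℤ} (hx : 0 ≤ x) {a b : Fin n × Bool} (hab : Ok a b) (e : TypeC.ee x = wt a + wt b) :
    Good a b ∨ Good b a := by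
  have key : ∀ m : Fin n, 0 ≤ (if a.1 ≤ m then (if a.2 then (1 : ℤ) else -1) else 0) +
      (if b.1 ≤ m then (if b.2 then (1 : ℤ) else -1) else 0) := by
    intro m
    have h1 := sum_ee x m
    rw [e] at h1
    simp only [Pi.add_apply, Finset.sum_add_distrib, sum_wt] at h1
    rw [h1]
    have h2 := hx m
    have h3 : (0 : ℤ) ≤ x m := h2
    split_ifs <;> linarith
  obtain ⟨i, s⟩ := a
  obtain ⟨j, t⟩ := b
  cases s <;> cases t
  · exfalso
    have h1 := key i
    simp only [le_refl, if_true, Bool.false_eq_true, if_false] at h1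
    split_ifs at h1 <;> omega
  · right
    refine ⟨rfl, Or.inr ⟨?_, rfl⟩⟩
    have h1 := key i
    simp only [le_refl, if_true, Bool.false_eq_true, if_false] at h1
    have h2 : j ≤ i := by
      by_contra h2
      rw [if_neg h2] at h1
      omega
    rcases hab with h3 | h3
    · exact lt_of_le_of_ne h2 (Ne.symm h3)
    · exact absurd (congrArg Prod.snd h3) (by simp)
  · left
    refine ⟨rfl, Or.inr ⟨?_, rfl⟩⟩
    have h1 := key j
    simp only [le_refl, if_true, Bool.false_eq_true, if_false] at h1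
    have h2 : i ≤ j := by
      by_contra h2
      rw [if_neg h2] at h1
      omega
    rcases hab with h3 | h3
    · exact lt_of_le_of_ne h2 h3
    · exact absurd (congrArg Prod.snd h3) (by simp)
  · exact Or.inl ⟨rfl, Or.inl rfl⟩

end Root

/-! ### The flag -/

variable (m : ℕ) (F : Type*) [Field F]

/-- the standard flag -/
def fl (i : ℕ) : Submodule F (Fin m ⊕ Fin m → F) := Submodule.span F (SpIdent.e m F '' {l | (l : ℕ) < i})

/-- the stabiliser of the flag in the isometry group -/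
def St : Subgroup (isos (form m F)) where
  carrier := {g | ∀ i, (fl m F i).map (g.1 : (Fin m ⊕ Fin m → F) →ₗ[F] (Fin m ⊕ Fin m → F)) = fl m F i}
  one_mem' i := Submodule.map_id _
  mul_mem' := by
    intro a b ha hb i
    have h1 : (((a * b : isos (form m F)).1 : (Fin m ⊕ Fin m → F) ≃ₗ[F] (Fin m ⊕ Fin m → F)) :
        (Fin m ⊕ Fin m → F) →ₗ[F] (Fin m ⊕ Fin m → F)) =
        (a.1 : (Fin m ⊕ Fin m → F) →ₗ[F] (Fin m ⊕ Fin m → F)).comp
          (b.1 : (Fin m ⊕ Fin m → F) →ₗ[F] (Fin m ⊕ Fin m → F)) := rfl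
    rw [h1, Submodule.map_comp, hb i, ha i]
  inv_mem' := by
    intro a ha i
    have h1 : (((a⁻¹ : isos (form m F)).1 : (Fin m ⊕ Fin m → F) ≃ₗ[F] (Fin m ⊕ Fin m → F)) :
        (Fin m ⊕ Fin m → F) →ₗ[F] (Fin m ⊕ Fin m → F)).comp
        (a.1 : (Fin m ⊕ Fin m → F) →ₗ[F] (Fin m ⊕ Fin m → F)) = LinearMap.id := by
      ext1 j
      ext1
      exact a.1.symm_apply_apply _
    have h2 := congrArg (Submodule.map (((a⁻¹ : isos (form m F)).1 : (Fin m ⊕ Fin m → F) ≃ₗ[F] (Fin m ⊕ Fin m → F)) :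
      (Fin m ⊕ Fin m → F) →ₗ[F] (Fin m ⊕ Fin m → F))) (ha i)
    rw [← Submodule.map_comp, h1, Submodule.map_id] at h2
    exact h2.symm

variable {m F}

theorem e_mem_fl {l : Fin m} {i : ℕ} (h : (l : ℕ) < i) : SpIdent.e m F l ∈ fl m F i :=
  Submodule.subset_span ⟨l, h, rfl⟩

theorem fl_mono {i j : ℕ} (h : i ≤ j) : fl m F i ≤ fl m F j :=
  Submodule.span_mono (Set.image_mono fun _ hl => lt_of_lt_of_le hl h)

theorem mem_St_of {g : isos (form m F)} (h : ∀ l : Fin m, g.1 (SpIdent.e m F l) ∈ fl m F (l + 1)) : g ∈ St m F := by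
  intro i
  have h1 : (fl m F i).map (g.1 : (Fin m ⊕ Fin m → F) →ₗ[F] (Fin m ⊕ Fin m → F)) ≤ fl m F i := by
    rw [fl, Submodule.map_span, Submodule.span_le]
    rintro _ ⟨_, ⟨l, hl, rfl⟩, rfl⟩
    exact fl_mono hl (h l)
  exact Submodule.eq_of_le_of_finrank_eq h1 (LinearEquiv.finrank_map_eq g.1 _)

theorem tor_le_St {g : isos (form m F)} (hg : Mono (frame m F) g.1 id) : g ∈ St m F := by
  refine mem_St_of fun l => ?_
  obtain ⟨c, -, hc⟩ := hg (l, true)
  have h1 : g.1 (SpIdent.e m F l) = c • SpIdent.e m F l := hc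
  rw [h1]
  exact Submodule.smul_mem _ _ (e_mem_fl (Nat.lt_succ_self _))

theorem h_ee (i j : Fin m) : (form m F).h (SpIdent.e m F i) (SpIdent.e m F j) = 0 := SpIdent.ee i j

theorem PG_le_St {a b : Fin m × Bool} (hab : Ok a b) (h : Good a b) {g : isos (form m F)}
    (hg : g.1 ∈ PG (frame m F) a b) : g ∈ St m F := by
  refine mem_St_of fun l => ?_
  obtain ⟨i, s⟩ := a
  obtain ⟨j, t⟩ := b
  obtain ⟨hs, h⟩ := h
  simp only at hs h
  subst hs
  rcases hab with hne | heq
  · rw [PG_ne _ hne] at hg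
    obtain ⟨c, hc⟩ := hg
    rw [hc, Frame.X_eq _ hne, HForm.sie_apply]
    have h1 : (form m F).h (SpIdent.e m F l) ((frame m F).b (i, true)) = 0 := h_ee l i
    rw [h1, zero_smul, mul_zero, zero_smul, add_zero, add_zero]
    refine sub_mem (e_mem_fl (Nat.lt_succ_self _)) ?_
    rcases h with rfl | ⟨hij, rfl⟩
    · have h2 : (form m F).h (SpIdent.e m F l) ((frame m F).sc (j, true) c • (frame m F).b (j, true)) = 0 := by
        rw [HForm.smul_right, frame_b_true, h_ee, mul_zero]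
      rw [h2, mul_zero, zero_smul]
      exact zero_mem _
    · by_cases hlj : l = j
      · subst hlj
        exact Submodule.smul_mem _ _ (e_mem_fl (lt_of_lt_of_le hij (Nat.le_succ _)))
      · have h2 : (form m F).h (SpIdent.e m F l) ((frame m F).sc (j, false) c • (frame m F).b (j, false)) = 0 := by
          rw [HForm.smul_right, frame_b_false, form_h, SpIdent.ef, if_neg hlj, mul_zero]
        rw [h2, mul_zero, zero_smul]
        exact zero_mem _
  · obtain ⟨rfl, rfl⟩ := Prod.mk.injEq .. ▸ heq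
    rw [PG_self] at hg
    obtain ⟨q, hq⟩ := hg
    rw [hq]
    have h0 : q.w = 0 := q.ok
    unfold Frame.Z
    rw [HForm.sie_apply]
    have h1 : (form m F).h (SpIdent.e m F l) ((frame m F).b (i, true)) = 0 := h_ee l i
    rw [h1, h0, HForm.zero_right, zero_smul, mul_zero, zero_smul, mul_zero, zero_smul, add_zero, add_zero, sub_zero]
    exact e_mem_fl (Nat.lt_succ_self _)

theorem X_le {x : Fin m → ℤ}
    (hx : x ∈ RGD.Pos (CoxeterMatrix.B m).toCoxeterSystem (TypeC.isCartan m)) :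
    WittModel.X (KInstSp.model m F) x ≤ (St m F).map SpIdent.toPSp := by
  intro y hy
  rw [WittModel.mem_X] at hy
  obtain ⟨g, hg, hgx, rfl⟩ := hy
  refine ⟨⟨g, hg⟩, ?_, rfl⟩
  obtain ⟨a, b, hab, e⟩ := exists_of_isRoot _ hx.1
  rw [rg_eq _ hab e] at hgx
  rcases good_of_nonneg hx.2 hab e with h | h
  · exact PG_le_St hab h hgx
  · rw [PG_swap _ hab] at hgx
    exact PG_le_St hab.symm h hgx

/-- **The Borel subgroup fixes the standard flag.** -/
theorem borel_fixes (m : ℕ) (hm : 2 ≤ m) (F : Type*) [Field F] [Fintype F] {y : Cfsg.PSp m F}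
    (hy : y ∈ RGD.B (CoxeterMatrix.B m).toCoxeterSystem (Cfsg.Agent.Nodes.TypeC.isCartan m)
      (WittModel.T (KInstSp.model m F)) (WittModel.X (KInstSp.model m F))) :
    ∃ g : SpIdent.isos (SpIdent.form m F), SpIdent.toPSp g = y ∧
      ∀ i : ℕ, (Submodule.span F (SpIdent.e m F '' {l | (l : ℕ) < i})).map (g.1 : _ →ₗ[F] _) =
        Submodule.span F (SpIdent.e m F '' {l | (l : ℕ) < i}) := by
  have h1 : RGD.B (CoxeterMatrix.B m).toCoxeterSystem (Cfsg.Agent.Nodes.TypeC.isCartan m)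
      (WittModel.T (KInstSp.model m F)) (WittModel.X (KInstSp.model m F)) ≤ (St m F).map SpIdent.toPSp := by
    refine sup_le ?_ (iSup_le fun x => X_le x.2)
    rintro _ ⟨g, hg, rfl⟩
    exact ⟨g, tor_le_St (Subgroup.mem_subgroupOf.1 hg).2, rfl⟩
  obtain ⟨g, hg, hgy⟩ := h1 hy
  exact ⟨g, hgy, hg⟩

open H396.CommTab in
/-- **The datum of `PSp m F`** with the Borel subgroup fixing the standard flag. -/
theorem exists_dat {m : ℕ} (hm : 2 ≤ m) {F : Type*} [Field F] [Fintype F] (hF : 2 < Fintype.card F) {p : ℕ}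
    [Fact p.Prime] [CharP F p] :
    ∃ D : H249.Dat (Cfsg.PSp m F) (Fin m) p, (D.U ≤ ⁅D.U, D.U⁆ ⊔ ⨆ i, D.X i) ∧
      (∀ J : Set (Fin m), J.Nonempty → ∃ E : H249.JDat D J,
        E.Q ≤ ⁅D.U, D.U⁆ ⊔ ⨆ i : (Jᶜ : Set (Fin m)), D.X i) ∧
      (¬ p ∣ D.U.index) ∧
      ∀ y ∈ D.B, ∃ g : SpIdent.isos (SpIdent.form m F), SpIdent.toPSp g = y ∧
        ∀ i : ℕ, (Submodule.span F (SpIdent.e m F '' {l | (l : ℕ) < i})).map (g.1 : _ →ₗ[F] _) =
          Submodule.span F (SpIdent.e m F '' {l | (l : ℕ) < i}) := by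
  obtain ⟨t, ht0, ht1⟩ := H396.CommTab.exists_ne hF
  have hw : ∀ p : (SpIdent.frame m F).Adm, p.w = 0 := fun p =>
    (Submodule.mem_bot F).1 ((SpIdent.frame m F).ok_mem p.ok)
  have hA : AmbT (SpIdent.frame m F) p (KInstSp.model m F).I := AmbT.of_amb WittU.amb_Sp p
  have R := rgdC_model (KInstSp.model m F) hA (p0 := SpIdent.adm 1) one_ne_zero (CoxeterMatrix.B m).toCoxeterSystem
  have hG1 := WittModel.G1_eq_top (KInstSp.model m F) (by omega) (CoxeterMatrix.B m).toCoxeterSystem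
  have hfinW := finite_W (CoxeterMatrix.B m).toCoxeterSystem
  have hGd := Cfsg.Agent.Omega.EH3.Kf.TwWitt.gd_of_sp (KInstSp.model m F) hw (fun _ => rfl) (fun c => ⟨SpIdent.adm c, rfl⟩) ht0 ht1
  have hC : Cfsg.Agent.Omega.EH3.Kf.Lev.CommGen (CoxeterMatrix.B m).toCoxeterSystem (TypeC.isCartan m)
      (WittModel.X (KInstSp.model m F)) := fun _ hr h0 hs => hGd.gen _ hr h0 hs
  have hGG : Bruhat.GG (CoxeterMatrix.B m).toCoxeterSystem (TypeC.isCartan m) (WittModel.T (KInstSp.model m F))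
      (WittModel.X (KInstSp.model m F)) = ⊤ := by
    rw [eq_top_iff, ← hG1]
    exact le_sup_right
  have hUi : ¬ p ∣ (RGD.Sup (WittModel.X (KInstSp.model m F))
      (RGD.Pos (CoxeterMatrix.B m).toCoxeterSystem (TypeC.isCartan m))).index := by
    have h1 := KFacts.RgdSyl.not_dvd_relIndex R
    rwa [hGG, Subgroup.relIndex_top_right] at h1
  have hp : p.Prime := Fact.out
  exact ⟨H249.OfRGD.dat R hp hGG, H249.OfRGD.gen_U R hp hGG hC, fun J hJ => H249.OfRGD.exists_jdat R hp hGG hC hJ,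
    hUi, fun y hy => borel_fixes m hm F hy⟩

end Cfsg.Agent.H415.SpFlag
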